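import Groth.Agent.Approx60.ProjCharts
import Groth.Agent.Csa25.ProjLin

/-!
Points of projective space from coordinates, and their behaviour under linear substitutions.
-/

set_option autoImplicit false

universe u

open CategoryTheory CategoryTheory.Limits AlgebraicGeometry HomogeneousLocalization

set_option backward.isDefEq.respectTransparency false

noncomputable section

namespace Groth.Agent.PnConst7

open Approx60.ProjCharts

variable {k R R' : Type u} [CommRing k] [CommRing R] [CommRing R'] {n : ℕ}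

local notation "𝒜" => CohB1.polyGrading n k
local notation "Poly" => MvPolynomial (Fin (n + 1)) k

/-- The point of projective space given by a ring homomorphism on forms, in the chart of `t`. -/
def point (φ : Poly →+* R) (t : Poly) {d : ℕ} (ht : t ∈ 𝒜 d) (hd : 0 < d) (hu : IsUnit (φ t)) :
    Spec (CommRingCat.of R) ⟶ CohB1.ProjSpace n k :=
  Spec.map (CommRingCat.ofHom (awayEval φ t hu)) ≫ Proj.awayι 𝒜 t ht hd

theorem point_congr {φ φ' : Poly →+* R} (e : φ = φ') (t : Poly) {d : ℕ} (ht : t ∈ 𝒜 d) (hd : 0 < d)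
    (hu : IsUnit (φ t)) : point φ t ht hd hu = point φ' t ht hd (e ▸ hu) := by
  subst e; rfl

/-- The chart used for a point does not matter. -/
theorem point_indep (φ : Poly →+* R) (t s : Poly) {d e : ℕ} (ht : t ∈ 𝒜 d) (hd : 0 < d) (hu : IsUnit (φ t))
    (hs : s ∈ 𝒜 e) (he : 0 < e) (hv : IsUnit (φ s)) :
    point φ t ht hd hu = point φ s hs he hv := by
  have hts : IsUnit (φ (t * s)) := by rw [map_mul]; exact hu.mul hv
  have h1 := awayEval_awayMap φ t s hs (x := t * s) rfl hu hts
  have h2 := awayEval_awayMap φ s t ht (x := t * s) (mul_comm _ _) hv hts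
  rw [point, point, ← h1, ← h2, CommRingCat.ofHom_comp, CommRingCat.ofHom_comp, Spec.map_comp,
    Spec.map_comp, Category.assoc, Category.assoc]
  congr 1
  exact (Proj.SpecMap_awayMap_awayι 𝒜 ht hd hs rfl).trans
    (Proj.SpecMap_awayMap_awayι 𝒜 hs he ht (mul_comm t s)).symm

/-- Base change of a point along a ring map. -/
theorem specMap_point (ψ : R →+* R') (φ : Poly →+* R) (t : Poly) {d : ℕ} (ht : t ∈ 𝒜 d) (hd : 0 < d)
    (hu : IsUnit (φ t)) :
    Spec.map (CommRingCat.ofHom ψ) ≫ point φ t ht hd hu = point (ψ.comp φ) t ht hd (hu.map ψ) := by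
  rw [point, point, ← Spec.map_comp_assoc, ← CommRingCat.ofHom_comp]
  congr 2
  refine congrArg CommRingCat.ofHom (RingHom.ext fun z => ?_)
  obtain ⟨c, rfl⟩ := HomogeneousLocalization.mk_surjective z
  refine (isUnit_den (ψ.comp φ) t (hu.map ψ) c).mul_right_cancel ?_
  rw [awayEval_spec, RingHom.comp_apply, RingHom.comp_apply, RingHom.comp_apply, ← map_mul, awayEval_spec]

/-- The base point of a point is given by its constants. -/
theorem point_toSpec (φ : Poly →+* R) (t : Poly) {d : ℕ} (ht : t ∈ 𝒜 d) (hd : 0 < d) (hu : IsUnit (φ t)) :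
    point φ t ht hd hu ≫ CohB1.ProjSpace.toSpec n k = Spec.map (CommRingCat.ofHom (φ.comp MvPolynomial.C)) := by
  rw [point, CohB1.ProjSpace.toSpec, Category.assoc, Proj.awayι_toSpecZero_assoc, ← Spec.map_comp,
    ← Spec.map_comp]
  refine congrArg Spec.map (CommRingCat.hom_ext (RingHom.ext fun r => ?_))
  have h := awayEval_spec φ t hu
    ⟨0, algebraMap k (𝒜 0) r, ⟨1, SetLike.GradedOne.one_mem⟩, one_mem _⟩
  simp only [map_one, mul_one] at h
  exact h

/-- The image of a point under a linear substitution. -/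
theorem point_linMap {n : ℕ} (θ : R →+* R') {A : Type u} [CommRing A]
    (g : Matrix (Fin (n + 1)) (Fin (n + 1)) R') (hg : IsUnit g)
    (φ : MvPolynomial (Fin (n + 1)) R' →+* A) (t : MvPolynomial (Fin (n + 1)) R) {d : ℕ}
    (ht : t ∈ CohB1.polyGrading n R d) (hd : 0 < d) (s : MvPolynomial (Fin (n + 1)) R') {e : ℕ}
    (hs : s ∈ CohB1.polyGrading n R' e) (he : 0 < e) (hv : IsUnit (φ s))
    (hu : IsUnit (φ.comp (Csa25.linHom θ g : MvPolynomial (Fin (n + 1)) R →+* MvPolynomial (Fin (n + 1)) R') t)) :
    point φ s hs he hv ≫ Csa25.linMap θ g hg =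
      point (φ.comp (Csa25.linHom θ g : MvPolynomial (Fin (n + 1)) R →+* MvPolynomial (Fin (n + 1)) R')) t ht hd hu := by
  rw [point_indep φ s (Csa25.linHom θ g t) hs he hv ((Csa25.linHom θ g).map_mem ht) hd hu, point, point,
    Category.assoc, Csa25.linMap, Proj.awayι_comp_map _ _ hd t ht, ← Spec.map_comp_assoc, ← CommRingCat.ofHom_comp]
  congr 2
  refine congrArg CommRingCat.ofHom (RingHom.ext fun z => ?_)
  obtain ⟨c, rfl⟩ := HomogeneousLocalization.mk_surjective z
  refine (isUnit_den _ t hu c).mul_right_cancel ?_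
  rw [awayEval_spec, RingHom.comp_apply, Away.map, HomogeneousLocalization.map_mk]
  exact awayEval_spec φ (Csa25.linHom θ g t) hu _

/-- The coordinates of the tautological point of a standard chart. -/
theorem point_taut (j : Fin (n + 1))
    (hu : IsUnit (MvPolynomial.eval₂Hom ((fromZeroRingHom 𝒜 _).comp (algebraMap k (𝒜 0)))
      (fun i => frac k n j (X₁ k n i)) (MvPolynomial.X j : Poly))) :
    point (MvPolynomial.eval₂Hom ((fromZeroRingHom 𝒜 _).comp (algebraMap k (𝒜 0)))
      (fun i => frac k n j (X₁ k n i))) _ (X₁ k n j).2 one_pos hu =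
      Proj.awayι 𝒜 (MvPolynomial.X j) (X₁ k n j).2 one_pos := by
  let f : Poly := MvPolynomial.X j
  let cst : k →+* Away 𝒜 f := (fromZeroRingHom 𝒜 _).comp (algebraMap k (𝒜 0))
  let L := Localization (Submonoid.powers f)
  let v : Away 𝒜 f →+* L := algebraMap (Away 𝒜 f) L
  let q : Poly →+* Away 𝒜 f := MvPolynomial.eval₂Hom cst (fun i => frac k n j (X₁ k n i))
  have hq : ∀ {d : ℕ} (a : Poly), a ∈ 𝒜 d → algebraMap _ L f ^ d * v (q a) = algebraMap _ L a := by
    intro d a ha
    have hX : ∀ i, algebraMap _ L f * v (frac k n j (X₁ k n i)) = algebraMap _ L (MvPolynomial.X i) := fun i => by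
      show _ * (frac k n j (X₁ k n i)).val = _
      rw [frac, HomogeneousLocalization.val_mk, Localization.mk_eq_mk']
      exact IsLocalization.mk'_spec' (M := Submonoid.powers f) L _ _
    have hC : ∀ r, v (cst r) = algebraMap _ L (MvPolynomial.C r) := fun r => by
      show (cst r).val = _
      exact (Localization.mk_one_eq_algebraMap _)
    have h := eval_smul (v.comp cst) (algebraMap _ L f) (fun i => v (frac k n j (X₁ k n i))) ha
    simp only [hX] at h
    rw [show v (q a) = MvPolynomial.eval₂Hom (v.comp cst) (fun i => v (frac k n j (X₁ k n i))) a from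
      MvPolynomial.eval₂_comp_left v cst _ a, ← h]
    exact RingHom.congr_fun (MvPolynomial.ringHom_ext
      (f := MvPolynomial.eval₂Hom (v.comp cst) fun i => algebraMap _ L (MvPolynomial.X i)) (g := algebraMap Poly L)
      (fun r => by rw [MvPolynomial.eval₂Hom_C, RingHom.comp_apply, hC]) fun i => by rw [MvPolynomial.eval₂Hom_X']) a
  have key : awayEval q f hu = RingHom.id _ := by
    refine RingHom.ext fun z => ?_
    obtain ⟨c, rfl⟩ := HomogeneousLocalization.mk_surjective z
    refine (isUnit_den q f hu c).mul_right_cancel ?_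
    rw [awayEval_spec, RingHom.id_apply]
    refine HomogeneousLocalization.val_injective _ ?_
    have hf : IsUnit (algebraMap _ L f ^ c.deg) :=
      (IsLocalization.map_units L (⟨f, 1, pow_one f⟩ : Submonoid.powers f)).pow _
    refine hf.mul_left_cancel ?_
    rw [HomogeneousLocalization.val_mul, mul_left_comm]
    show algebraMap _ L f ^ c.deg * v (q c.num.1) =
      (HomogeneousLocalization.mk c).val * (algebraMap _ L f ^ c.deg * v (q c.den.1))
    rw [hq _ c.num.2, hq _ c.den.2, HomogeneousLocalization.val_mk, Localization.mk_eq_mk']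
    exact (IsLocalization.mk'_spec _ _ _).symm
  show Spec.map (CommRingCat.ofHom (awayEval q f hu)) ≫ _ = _
  rw [key, show CommRingCat.ofHom (RingHom.id (Away 𝒜 f)) = 𝟙 _ from rfl, Spec.map_id, Category.id_comp]
  rfl

end Groth.Agent.PnConst7
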