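import Groth.Agent.PnConst7.Point
import Groth.Agent.Approx60.Segre
import Groth.Agent.Curves2.ProjLine
import Groth.Agent.Rig93.GenGroup

/-!
Morphisms from projective space over a field to separated group schemes of finite type are constant.
-/

set_option autoImplicit false

universe u

open CategoryTheory CategoryTheory.Limits MonoidalCategory CartesianMonoidalCategory MonObj GrpObj AlgebraicGeometry
open HomogeneousLocalization

set_option backward.isDefEq.respectTransparency false

noncomputable section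

namespace Groth.Agent.PnConst7

open Approx60.ProjCharts

theorem geometricallyConnected_projSpace (n : ℕ) (K : Type u) [Field K] :
    GeometricallyConnected (CohB1.ProjSpace.toSpec n K) ∧ GeometricallyReduced (CohB1.ProjSpace.toSpec n K) := by
  have key : ∀ (L : Type u) [Field L] (y : Spec (CommRingCat.of L) ⟶ Spec (CommRingCat.of K)) (Z : Scheme.{u})
      (p : Z ⟶ CohB1.ProjSpace n K) (q : Z ⟶ Spec (CommRingCat.of L)),
      IsPullback p q (CohB1.ProjSpace.toSpec n K) y → IsIntegral Z := by
    intro L _ y Z p q h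
    obtain ⟨ψ, rfl⟩ := Spec.map_surjective y
    have h' := @Csa25.isPullback_linMap_one n K L _ _ ψ.hom.toAlgebra
    have : IsIntegral (CohB1.ProjSpace n L) := Curves2.ProjLine.isIntegral L n
    have hy : Spec.map (CommRingCat.ofHom ψ.hom) = Spec.map ψ := rfl
    let e : Z ≅ CohB1.ProjSpace n L := h.isoIsPullback _ _ (hy ▸ h')
    have : Nonempty Z := ⟨e.inv (Classical.arbitrary _)⟩
    exact isIntegral_of_isOpenImmersion e.hom
  refine ⟨⟨fun L _ y Z p q h => ?_⟩, ⟨fun L _ y Z p q h => ?_⟩⟩
  · have := key L y Z p q h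
    exact inferInstanceAs (ConnectedSpace Z)
  · have := key L y Z p q h
    exact inferInstanceAs (IsReduced Z)

/-- A morphism from projective space over a field to a separated group scheme of finite type is
constant. -/
theorem eq_toUnit_comp (n : ℕ) (K : Type u) [Field K] (G : Over (Spec (CommRingCat.of K))) [GrpObj G]
    [IsSeparated G.hom] [LocallyOfFiniteType G.hom] [QuasiCompact G.hom]
    (φ : Over.mk (CohB1.ProjSpace.toSpec n K) ⟶ G) :
    ∃ z : 𝟙_ (Over (Spec (CommRingCat.of K))) ⟶ Over.mk (CohB1.ProjSpace.toSpec n K),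
      φ = toUnit _ ≫ z ≫ φ := by
  classical
  let R := Away (CohB1.polyGrading n K) (MvPolynomial.X (0 : Fin (n + 1)))
  let κ : K →+* R := (fromZeroRingHom (CohB1.polyGrading n K) _).comp (algebraMap K (CohB1.polyGrading n K 0))
  let T : Fin (n + 1) → R := fun i => frac K n 0 (X₁ K n i)
  have hT0 : T 0 = 1 := by
    apply HomogeneousLocalization.val_injective
    show (HomogeneousLocalization.mk _).val = _
    rw [HomogeneousLocalization.val_mk, HomogeneousLocalization.val_one]
    exact Localization.mk_self (⟨(X₁ K n 0).1, 1, pow_one _⟩ : Submonoid.powers _)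
  have : IsDomain R :=
    have : IsDomain (Localization (Submonoid.powers (MvPolynomial.X (0 : Fin (n + 1)) : MvPolynomial (Fin (n + 1)) K))) :=
      IsLocalization.isDomain_localization (powers_le_nonZeroDivisors_of_noZeroDivisors (MvPolynomial.X_ne_zero 0))
    (Curves2.ProjLine.away_val_injective K _).isDomain (algebraMap R (Localization (Submonoid.powers _)))
  let g : Matrix (Fin (n + 1)) (Fin (n + 1)) R := fun i j => if i = 0 then T j else if i = j then 1 else 0
  have hg : IsUnit g := by
    rw [Matrix.isUnit_iff_isUnit_det, Matrix.det_of_isUpperTriangular]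
    · refine (IsUnit.prod_iff.2 fun i _ => ?_)
      by_cases hi : i = 0 <;> simp [g, hi, hT0]
    · intro i j hij
      have hji : j < i := hij
      have hi : i ≠ 0 := fun h => by subst h; exact absurd hji (Fin.not_lt_zero _)
      simp [g, hi, hji.ne']
  let X : Over (Spec (CommRingCat.of K)) := Over.mk (CohB1.ProjSpace.toSpec n K)
  let Y : Over (Spec (CommRingCat.of K)) := Over.mk (Spec.map (CommRingCat.ofHom κ))
  have hpb : IsPullback (Csa25.linMap (n := n) κ 1 isUnit_one) (CohB1.ProjSpace.toSpec n R)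
      (CohB1.ProjSpace.toSpec n K) (Spec.map (CommRingCat.ofHom κ)) :=
    @Csa25.isPullback_linMap_one n K R _ _ κ.toAlgebra
  let I : CohB1.ProjSpace n R ≅ (X ⊗ Y).left := hpb.isoPullback
  have hI1 : I.hom ≫ (fst X Y).left = Csa25.linMap κ 1 isUnit_one := hpb.isoPullback_hom_fst
  have hI2 : I.hom ≫ (snd X Y).left = CohB1.ProjSpace.toSpec n R := hpb.isoPullback_hom_snd
  let m : X ⊗ Y ⟶ X := Over.homMk (I.inv ≫ Csa25.linMap κ g hg) (by
    show (I.inv ≫ _) ≫ CohB1.ProjSpace.toSpec n K = (X ⊗ Y).hom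
    rw [Category.assoc, Csa25.linMap_toSpec, ← hI2, Category.assoc, Iso.inv_hom_id_assoc]
    exact Over.w (snd X Y))
  -- coordinate points
  let a : Fin (n + 1) → Fin (n + 1) → R := fun l => Pi.single l 1
  have ha : ∀ l, IsUnit (MvPolynomial.eval₂Hom (RingHom.id R) (a l) (MvPolynomial.X l)) :=
    fun l => isUnit_eval_X _ _ _ (by simp [a])
  let P : Fin (n + 1) → (Y ⟶ X ⊗ Y) := fun l => Over.homMk
    (point (MvPolynomial.eval₂Hom (RingHom.id R) (a l)) (MvPolynomial.X l) (X₁ R n l).2 one_pos (ha l) ≫ I.hom) (by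
      rw [← Over.w (snd X Y), Category.assoc, reassoc_of% hI2, ← Category.assoc, point_toSpec]
      show _ ≫ Spec.map (CommRingCat.ofHom κ) = Spec.map (CommRingCat.ofHom κ)
      rw [show (MvPolynomial.eval₂Hom (RingHom.id R) (a l)).comp MvPolynomial.C = RingHom.id R from
        RingHom.ext fun r => MvPolynomial.eval₂Hom_C _ _ r]
      rw [show CommRingCat.ofHom (RingHom.id R) = 𝟙 _ from rfl, Spec.map_id, Category.id_comp])
  have hP2 : ∀ l, P l ≫ snd X Y = 𝟙 Y := fun l => by
    ext : 1
    show (point _ _ _ _ _ ≫ I.hom) ≫ (snd X Y).left = 𝟙 _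
    rw [Category.assoc, hI2, point_toSpec,
      show (MvPolynomial.eval₂Hom (RingHom.id R) (a l)).comp MvPolynomial.C = RingHom.id R from
        RingHom.ext fun r => MvPolynomial.eval₂Hom_C _ _ r]
    exact Spec.map_id _
  have hlin : ∀ (h : Matrix (Fin (n + 1)) (Fin (n + 1)) R) (l : Fin (n + 1)),
      (MvPolynomial.eval₂Hom (RingHom.id R) (a l)).comp
        (Csa25.linHom (n := n) κ h : MvPolynomial (Fin (n + 1)) K →+* MvPolynomial (Fin (n + 1)) R) =
      MvPolynomial.eval₂Hom κ (h l) := by
    intro h l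
    refine MvPolynomial.ringHom_ext (fun r => ?_) (fun j => ?_)
    · show MvPolynomial.eval₂Hom _ (a l) (Csa25.linHom (n := n) κ h (MvPolynomial.C r)) = _
      rw [Csa25.linHom_C, MvPolynomial.eval₂Hom_C, MvPolynomial.eval₂Hom_C]
      rfl
    · show MvPolynomial.eval₂Hom _ (a l) (Csa25.linHom (n := n) κ h (MvPolynomial.X j)) = _
      rw [Csa25.linHom_X, Csa25.linForm, map_sum, MvPolynomial.eval₂Hom_X']
      simp only [map_mul, MvPolynomial.eval₂Hom_C, MvPolynomial.eval₂Hom_X', RingHom.id_apply, a]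
      rw [Finset.sum_eq_single l] <;> simp +contextual
  have hgl : ∀ l, g l l = 1 := fun l => by by_cases hl : l = 0 <;> simp [g, hl, hT0]
  have hgu : ∀ l, IsUnit (MvPolynomial.eval₂Hom κ (g l) (MvPolynomial.X l : MvPolynomial (Fin (n + 1)) K)) :=
    fun l => isUnit_eval_X _ _ _ (by rw [hgl]; exact isUnit_one)
  have hsu : ∀ l : Fin (n + 1), IsUnit (MvPolynomial.eval₂Hom (RingHom.id K) (Pi.single l (1 : K)) (MvPolynomial.X l)) :=
    fun l => isUnit_eval_X _ _ _ (by simp)
  let z : Fin (n + 1) → (𝟙_ (Over (Spec (CommRingCat.of K))) ⟶ X) := fun l => Over.homMk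
    (point (MvPolynomial.eval₂Hom (RingHom.id K) (Pi.single l 1)) (MvPolynomial.X l) (X₁ K n l).2 one_pos (hsu l)) (by
      show point _ _ _ _ _ ≫ CohB1.ProjSpace.toSpec n K = _
      rw [point_toSpec, show (MvPolynomial.eval₂Hom (RingHom.id K) (Pi.single l (1 : K))).comp MvPolynomial.C =
        RingHom.id K from RingHom.ext fun r => MvPolynomial.eval₂Hom_C _ _ r]
      exact Spec.map_id _)
  have hPfst : ∀ l, P l ≫ fst X Y = toUnit Y ≫ z l := by
    intro l
    ext : 1
    show (point _ _ _ _ _ ≫ I.hom) ≫ (fst X Y).left = (toUnit Y).left ≫ point _ _ _ _ _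
    rw [Over.toUnit_left, Category.assoc, hI1]
    show _ = Spec.map (CommRingCat.ofHom κ) ≫ _
    have hu : IsUnit ((MvPolynomial.eval₂Hom (RingHom.id R) (a l)).comp
        (Csa25.linHom (n := n) κ 1 : MvPolynomial (Fin (n + 1)) K →+* MvPolynomial (Fin (n + 1)) R) (MvPolynomial.X l)) := by
      rw [hlin]; exact isUnit_eval_X _ _ _ (by simp)
    rw [point_linMap κ 1 isUnit_one _ (MvPolynomial.X l) (X₁ K n l).2 one_pos _ _ one_pos (ha l) hu, specMap_point]
    refine point_congr (by
      rw [hlin]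
      refine MvPolynomial.ringHom_ext (fun r => ?_) (fun j => ?_)
      · simp
      · simp [Matrix.one_apply, Pi.single_apply, apply_ite κ, eq_comm]) _ _ _ hu
  have hPm : ∀ l, (P l ≫ m).left = point (MvPolynomial.eval₂Hom κ (g l)) (MvPolynomial.X l) (X₁ K n l).2 one_pos (hgu l) := by
    intro l
    show (point _ _ _ _ _ ≫ I.hom) ≫ I.inv ≫ Csa25.linMap κ g hg = _
    rw [Category.assoc, Iso.hom_inv_id_assoc]
    have hu : IsUnit ((MvPolynomial.eval₂Hom (RingHom.id R) (a l)).comp
        (Csa25.linHom (n := n) κ g : MvPolynomial (Fin (n + 1)) K →+* MvPolynomial (Fin (n + 1)) R) (MvPolynomial.X l)) := by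
      rw [hlin]; exact hgu l
    rw [point_linMap κ g hg _ (MvPolynomial.X l) (X₁ K n l).2 one_pos _ _ one_pos (ha l) hu]
    exact point_congr (hlin g l) _ _ _ hu
  -- the origin of the parameter space
  let ev : R →+* K := awayEval (MvPolynomial.eval₂Hom (RingHom.id K) (Pi.single (0 : Fin (n + 1)) 1)) _ (hsu 0)
  have hev : ev.comp κ = RingHom.id K := RingHom.ext fun r => awayEval_const _ _ _ (hsu 0) r
  have hevT : ∀ j, ev (T j) = (Pi.single 0 1 : Fin (n + 1) → K) j :=
    fun j => awayEval_frac _ _ _ (by simp) (hsu 0) j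
  let e : 𝟙_ (Over (Spec (CommRingCat.of K))) ⟶ Y := Over.homMk (Spec.map (CommRingCat.ofHom ev)) (by
    show Spec.map (CommRingCat.ofHom ev) ≫ Spec.map (CommRingCat.ofHom κ) = _
    rw [← Spec.map_comp, ← CommRingCat.ofHom_comp, hev]
    exact Spec.map_id _)
  have hslice : (Rig93.slice X e).left = Csa25.linMap ev 1 isUnit_one ≫ I.hom := by
    refine pullback.hom_ext ?_ ?_
    · show (Rig93.slice X e).left ≫ (fst X Y).left = (_ ≫ I.hom) ≫ (fst X Y).left
      rw [Category.assoc, hI1, ← Over.comp_left, Rig93.slice, lift_fst, Over.id_left, Csa25.linMap_comp]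
      exact Csa25.linMap_id.symm.trans (Csa25.linMap_congr hev.symm (by simp))
    · show (Rig93.slice X e).left ≫ (snd X Y).left = (_ ≫ I.hom) ≫ (snd X Y).left
      rw [Category.assoc, hI2, ← Over.comp_left, Rig93.slice, lift_snd, Over.comp_left, Over.toUnit_left,
        Csa25.linMap_toSpec]
      rfl
  have hsm : Rig93.slice X e ≫ m = 𝟙 X := by
    ext : 1
    rw [Over.comp_left, hslice, Over.id_left]
    show (_ ≫ I.hom) ≫ I.inv ≫ Csa25.linMap κ g hg = _
    rw [Category.assoc, Iso.hom_inv_id_assoc, Csa25.linMap_comp]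
    refine (Csa25.linMap_congr hev ?_).trans Csa25.linMap_id
    rw [_root_.one_mul]
    ext i j
    rw [Matrix.map_apply]
    by_cases hi : i = 0
    · subst hi
      simp [g, hevT, Matrix.one_apply, Pi.single_apply, eq_comm]
    · simp [g, hi, Matrix.one_apply, apply_ite ev]
  -- rigidity
  obtain ⟨hgc, hgr⟩ := geometricallyConnected_projSpace n K
  have : IsProper X.hom := Approx60.Segre.isProper_toSpec K n
  have : GeometricallyConnected X.hom := hgc
  have : GeometricallyReduced X.hom := hgr
  have : IsLocallyNoetherian (Spec (CommRingCat.of K)) := inferInstance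
  have : Flat X.hom := inferInstance
  have : LocallyOfFinitePresentation X.hom := inferInstance
  have : LocallyOfFinitePresentation G.hom := inferInstance
  have hcl : ∀ U : Set Y.left, IsClopen U → Set.range e.left ⊆ U → U = Set.univ := by
    intro U hU hr
    have : IrreducibleSpace Y.left := inferInstanceAs (IrreducibleSpace (PrimeSpectrum R))
    exact hU.eq_univ ⟨_, hr ⟨IsLocalRing.closedPoint K, rfl⟩⟩
  obtain ⟨h, hh⟩ := Rig93.prod_decomp_general X Y G (fun s => Rig93.h0_of_geometrically X.hom s) e hcl (m ≫ φ)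
  rw [reassoc_of% hsm] at hh
  have hcomp : ∀ l, (P l ≫ m) ≫ φ = (toUnit Y ≫ z l ≫ φ) * h := fun l => by
    rw [Category.assoc, hh, MonObj.comp_mul, reassoc_of% hPfst l, reassoc_of% hP2 l]
  have hlast : P (Fin.last n) ≫ m = toUnit Y ≫ z (Fin.last n) := by
    rw [← hPfst]
    ext : 1
    rw [hPm, hPfst]
    show _ = (toUnit Y).left ≫ point _ _ _ _ _
    rw [Over.toUnit_left]
    show _ = Spec.map (CommRingCat.ofHom κ) ≫ _
    rw [specMap_point]
    refine point_congr (MvPolynomial.ringHom_ext (fun r => by simp) fun j => ?_) _ _ _ (hgu _)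
    by_cases hl : Fin.last n = 0
    · have hj : j = 0 := le_antisymm (hl ▸ Fin.le_last j) (Fin.zero_le j)
      subst hj
      simp [g, hl, hT0]
    · simp [g, hl, Pi.single_apply, apply_ite κ, eq_comm]
  have h1 : h = 1 := by
    have h2 := hcomp (Fin.last n)
    rw [hlast, Category.assoc] at h2
    exact mul_left_cancel (h2.symm.trans (_root_.mul_one _).symm)
  have hchart : (P 0 ≫ m).left =
      Proj.awayι (CohB1.polyGrading n K) (MvPolynomial.X 0) (X₁ K n 0).2 one_pos := by
    have hg0 : g 0 = T := funext fun j => if_pos rfl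
    rw [hPm]
    have hu : IsUnit (MvPolynomial.eval₂Hom κ T (MvPolynomial.X (0 : Fin (n + 1)))) :=
      isUnit_eval_X _ _ _ (by rw [hT0]; exact isUnit_one)
    exact (point_congr (by rw [hg0]) _ _ _ (hgu 0)).trans (point_taut 0 hu)
  refine ⟨z 0, ?_⟩
  have h3 := hcomp 0
  rw [h1, _root_.mul_one] at h3
  have : IsIntegral (CohB1.ProjSpace n K) := Curves2.ProjLine.isIntegral K n
  have : IsReduced X.left := inferInstanceAs (IsReduced (CohB1.ProjSpace n K))
  let chι : Spec (CommRingCat.of R) ⟶ X.left :=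
    Proj.awayι (CohB1.polyGrading n K) (MvPolynomial.X 0) (X₁ K n 0).2 one_pos
  have : IsDominant chι := by
    have : IrreducibleSpace X.left := inferInstanceAs (IrreducibleSpace (CohB1.ProjSpace n K))
    have : IsOpenImmersion chι := inferInstanceAs (IsOpenImmersion (Proj.awayι _ _ _ _))
    exact ⟨IsOpen.dense chι.opensRange.2 ⟨_, ⟨Classical.arbitrary (PrimeSpectrum R), rfl⟩⟩⟩
  refine Over.OverMorphism.ext (ext_of_isDominant_of_isSeparated G.hom (by rw [Over.w, Over.w]) chι ?_)
  show chι ≫ φ.left = chι ≫ (toUnit X ≫ z 0 ≫ φ).left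
  have h4 : (P 0 ≫ m).left ≫ φ.left = (toUnit Y).left ≫ (z 0 ≫ φ).left :=
    congrArg (fun f : Y ⟶ G => Over.Hom.left f) h3
  rw [hchart, Over.toUnit_left] at h4
  rw [h4]
  show _ = chι ≫ (toUnit X).left ≫ (z 0 ≫ φ).left
  rw [Over.toUnit_left, ← Category.assoc]
  refine congrArg (· ≫ (z 0 ≫ φ).left) ?_
  rw [← Over.w (P 0 ≫ m), hchart]

end Groth.Agent.PnConst7
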